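import Cfsg.Agent.H680.EPR.Tools
import Cfsg.Agent.J2Sylow.SporSylow
import Cfsg.Agent.S2066
import Cfsg.Prelude.Def_Spor_J2
import Cfsg.Prelude.Def_G2

/-!
# S3499, row S5806: `Sp_6(q)`, `q ≥ 3`, residual class (helper680, task 5972)

`row_of` from the list S5806, the index bounds for `L₂(13)` (`q = 3`) and `J₂`, and the cases `L₂(q)`, `G₂(q)`.
-/

set_option autoImplicit false

namespace Cfsg.Agent.H680.EPR

open Subgroup Cfsg Cfsg.Agent.H284 Cfsg.Agent.H419.EP Cfsg.Agent.H59.EP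
open scoped MatrixGroups

/-- the conclusion of S5806 -/
def List5806 {F : Type} [Field F] [Fintype F] (H : Subgroup (GL (Fin 3 ⊕ Fin 3) F)) : Prop :=
  ∃ (P : Subgroup (Matrix.GeneralLinearGroup (Fin 3 ⊕ Fin 3) F)) (p : ℕ), Cfsg.Geo.IsResidualCore H P ∧ p.Prime ∧ CharP F p ∧
    ((Nonempty ((P ⧸ (Cfsg.Geo.scalars (Fin 3 ⊕ Fin 3) F).subgroupOf P) ≃* alternatingGroup (Fin 5)) ∧ Fintype.card F = p ∧ (p % 40 = 3 ∨ p % 40 = 37 ∨ p % 40 = 13 ∨ p % 40 = 27 ∨ p % 8 = 1 ∨ p % 8 = 7)) ∨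
     (Nonempty ((P ⧸ (Cfsg.Geo.scalars (Fin 3 ⊕ Fin 3) F).subgroupOf P) ≃* Matrix.ProjectiveSpecialLinearGroup (Fin 2) (ZMod 7)) ∧ ((Fintype.card F = p ∧ p ≠ 7 ∧ (p % 16 = 1 ∨ p % 16 = 15 ∨ p % 16 = 7 ∨ p % 16 = 9)) ∨ (Fintype.card F = p ^ 2 ∧ p ≠ 3 ∧ (p % 16 = 3 ∨ p % 16 = 13 ∨ p % 16 = 5 ∨ p % 16 = 11)))) ∨
     (Nonempty ((P ⧸ (Cfsg.Geo.scalars (Fin 3 ⊕ Fin 3) F).subgroupOf P) ≃* Matrix.ProjectiveSpecialLinearGroup (Fin 2) (ZMod 13)) ∧ ((Fintype.card F = p ∧ (p % 13 = 1 ∨ p % 13 = 12 ∨ p % 13 = 3 ∨ p % 13 = 10 ∨ p % 13 = 4 ∨ p % 13 = 9)) ∨ (Fintype.card F = p ^ 2 ∧ p ≠ 2 ∧ (p % 13 = 2 ∨ p % 13 = 11 ∨ p % 13 = 5 ∨ p % 13 = 8 ∨ p % 13 = 6 ∨ p % 13 = 7)))) ∨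
     (Nonempty ((P ⧸ (Cfsg.Geo.scalars (Fin 3 ⊕ Fin 3) F).subgroupOf P) ≃* alternatingGroup (Fin 7)) ∧ Fintype.card F = 9) ∨
     ((∃ (K : Type) (_ : Field K) (_ : Fintype K), Fintype.card K = 9 ∧ Nonempty ((P ⧸ (Cfsg.Geo.scalars (Fin 3 ⊕ Fin 3) F).subgroupOf P) ≃* Cfsg.PSU 3 K 3)) ∧ (Fintype.card F = 2 ∨ (Fintype.card F = p ∧ (p % 60 = 7 ∨ p % 60 = 53 ∨ p % 60 = 17 ∨ p % 60 = 43 ∨ p % 12 = 1 ∨ p % 12 = 11)))) ∨
     (Cfsg.Spor.IsoJ2 (P ⧸ (Cfsg.Geo.scalars (Fin 3 ⊕ Fin 3) F).subgroupOf P) ∧ ((Fintype.card F = p ∧ (p % 5 = 0 ∨ p % 5 = 1 ∨ p % 5 = 4)) ∨ (Fintype.card F = p ^ 2 ∧ p ≠ 2 ∧ (p % 5 = 2 ∨ p % 5 = 3)))) ∨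
     (Nonempty ((P ⧸ (Cfsg.Geo.scalars (Fin 3 ⊕ Fin 3) F).subgroupOf P) ≃* Matrix.ProjectiveSpecialLinearGroup (Fin 2) F) ∧ 7 ≤ p) ∨
     (Nonempty ((P ⧸ (Cfsg.Geo.scalars (Fin 3 ⊕ Fin 3) F).subgroupOf P) ≃* Cfsg.Lie.G2 F) ∧ p = 2 ∧ Fintype.card F ≠ 2))

theorem simple_psl_two {p : ℕ} [Fact p.Prime] (hp : 4 ≤ p) :
    IsSimpleGroup (Matrix.ProjectiveSpecialLinearGroup (Fin 2) (ZMod p)) :=
  Matrix.ProjectiveSpecialLinearGroup.rank_two_simple (by rw [Nat.card_eq_fintype_card, ZMod.card]; exact hp)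

theorem simple_alt {n : ℕ} (hn : 5 ≤ n) : IsSimpleGroup (alternatingGroup (Fin n)) :=
  alternatingGroup.isSimpleGroup (by rw [Nat.card_eq_fintype_card, Fintype.card_fin]; exact hn)

theorem card_alt {n : ℕ} (hn : 2 ≤ n) : 2 * Nat.card (alternatingGroup (Fin n)) = n.factorial := by
  have : Nontrivial (Fin n) := Fin.nontrivial_iff_two_le.2 hn
  rw [two_mul_nat_card_alternatingGroup, Nat.card_eq_fintype_card, Fintype.card_perm, Fintype.card_fin]

/-- a list of primes and exponents -/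
def OKl (l : List (ℕ × ℕ)) : Prop :=
  (∀ x ∈ l, x.1.Prime ∧ 0 < x.2) ∧ (l.map Prod.fst).Nodup ∧ ∀ x ∈ l, 5 ≤ x.1 → x.2 = 1

section

variable {Q : Type} [Group Q] [Finite Q] {A : Subgroup Q} {Γ : Subgroup (MulAut Q)}

theorem kill' (hg : TwoGen.{0}) (hs : IsSimpleGroup Q) (h : EPT A Γ) {L : Type*} [Group L] [Finite L]
    (hS : HasSoc A L) (hL : IsSimpleGroup L) (n : ℕ) (hn : n ≠ 0) (hnp : ¬ n.Prime) (hLc : Nat.card L = n)
    (hA : Nat.card (MulAut L) = 2 * n) (l l' : List (ℕ × ℕ)) (h1 : OKl l) (h1' : OKl l')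
    (hc : n = (l.map fun x => x.1 ^ x.2).prod) (hc' : 2 * n = (l'.map fun x => x.1 ^ x.2).prod) (B B' : ℕ)
    (hB : 1 + ((l.map fun x => gal x.1 x.2).sum * (n / 6) + n ^ 2 / 60) * (2 * (n / 6)) ≤ B)
    (hB' : 1 + ((l'.map fun x => gal x.1 x.2).sum * (2 * n / 6) + (2 * n) ^ 2 / 60) * (2 * (2 * n / 6)) ≤ B')
    (hlt : n * B < Nat.card Q) (hlt' : 2 * n * B' < Nat.card Q) : False :=
  kill_two hg hs h hS hL (not_comm_of_card hL (by rw [hLc]; exact hnp)) hn hLc hA.dvd l l' h1.1 h1.2.1 h1.2.2 hc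
    h1'.1 h1'.2.1 h1'.2.2 hc' hB hB' hlt hlt'

theorem kill_a5 (hg : TwoGen.{0}) (hs : IsSimpleGroup Q) (h : EPT A Γ) (hS : HasSoc A (alternatingGroup (Fin 5)))
    (hQ : 3072120 < Nat.card Q) : False := by
  have hc : Nat.card (alternatingGroup (Fin 5)) = 60 := by
    have : 2 * Nat.card (alternatingGroup (Fin 5)) = 120 := card_alt (n := 5) (by norm_num)
    omega
  refine kill' hg hs h hS (simple_alt le_rfl) 60 (by norm_num) (by norm_num) hc ?_
    [(2, 2), (3, 1), (5, 1)] [(2, 3), (3, 1), (5, 1)] ⟨by norm_num, by decide, by decide⟩ ⟨by norm_num, by decide, by decide⟩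
    (by decide) (by decide) 3001 25601 (by decide +kernel) (by decide +kernel) (by omega) (by omega)
  rw [card_aut_alt (by norm_num) (by norm_num)]
  norm_num [Nat.factorial]

theorem kill_a7 (hg : TwoGen.{0}) (hs : IsSimpleGroup Q) (h : EPT A Γ) (hS : HasSoc A (alternatingGroup (Fin 7)))
    (hQ : 5000000000000 < Nat.card Q) : False := by
  have hc : Nat.card (alternatingGroup (Fin 7)) = 2520 := by
    have : 2 * Nat.card (alternatingGroup (Fin 7)) = 5040 := card_alt (n := 7) (by norm_num)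
    omega
  refine kill' hg hs h hS (simple_alt (by norm_num)) 2520 (by norm_num) (by norm_num) hc ?_
    [(2, 3), (3, 2), (5, 1), (7, 1)] [(2, 4), (3, 2), (5, 1), (7, 1)] ⟨by norm_num, by decide, by decide⟩
    ⟨by norm_num, by decide, by decide⟩
    (by decide) (by decide) 900000000 900000000 (by decide +kernel) (by decide +kernel) (by omega) (by omega)
  rw [card_aut_alt (by norm_num) (by norm_num)]
  norm_num [Nat.factorial]

theorem kill_l7 (hg : TwoGen.{0}) (hs : IsSimpleGroup Q) (h : EPT A Γ)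
    (hS : HasSoc A (Matrix.ProjectiveSpecialLinearGroup (Fin 2) (ZMod 7))) (hQ : 300000000 < Nat.card Q) : False := by
  have : Fact (Nat.Prime 7) := ⟨by norm_num⟩
  have hc : Nat.card (Matrix.ProjectiveSpecialLinearGroup (Fin 2) (ZMod 7)) = 168 := by
    have : 2 * (6 * Nat.card (Matrix.ProjectiveSpecialLinearGroup (Fin 2) (ZMod 7))) = 2016 :=
      card_psl_two (p := 7) (by decide)
    omega
  refine kill' hg hs h hS (simple_psl_two (by norm_num)) 168 (by norm_num) (by norm_num) hc ?_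
    [(2, 3), (3, 1), (7, 1)] [(2, 4), (3, 1), (7, 1)] ⟨by norm_num, by decide, by decide⟩
    ⟨by norm_num, by decide, by decide⟩
    (by decide) (by decide) 800000 800000 (by decide +kernel) (by decide +kernel) (by omega) (by omega)
  have : Nat.card (MulAut (Matrix.ProjectiveSpecialLinearGroup (Fin 2) (ZMod 7))) * 6 = 2016 :=
    card_aut_psl_two (p := 7) (by norm_num)
  omega

theorem kill_l13 (hg : TwoGen.{0}) (hs : IsSimpleGroup Q) (h : EPT A Γ)
    (hS : HasSoc A (Matrix.ProjectiveSpecialLinearGroup (Fin 2) (ZMod 13))) (hQ : 150000000000 < Nat.card Q) :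
    False := by
  have : Fact (Nat.Prime 13) := ⟨by norm_num⟩
  have hc : Nat.card (Matrix.ProjectiveSpecialLinearGroup (Fin 2) (ZMod 13)) = 1092 := by
    have : 2 * (12 * Nat.card (Matrix.ProjectiveSpecialLinearGroup (Fin 2) (ZMod 13))) = 26208 :=
      card_psl_two (p := 13) (by decide)
    omega
  refine kill' hg hs h hS (simple_psl_two (by norm_num)) 1092 (by norm_num) (by norm_num) hc ?_
    [(2, 2), (3, 1), (7, 1), (13, 1)] [(2, 3), (3, 1), (7, 1), (13, 1)] ⟨by norm_num, by decide, by decide⟩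
    ⟨by norm_num, by decide, by decide⟩
    (by decide) (by decide) 65000000 65000000 (by decide +kernel) (by decide +kernel) (by omega) (by omega)
  have : Nat.card (MulAut (Matrix.ProjectiveSpecialLinearGroup (Fin 2) (ZMod 13))) * 12 = 26208 :=
    card_aut_psl_two (p := 13) (by norm_num)
  omega

theorem kill_u33 (hg : TwoGen.{0}) (hs : IsSimpleGroup Q) (h : EPT A Γ) {K : Type} [Field K] [Fintype K]
    (hK : Fintype.card K = 9) (hS : HasSoc A (Cfsg.PSU 3 K 3)) (hQ : 1000000000000000 < Nat.card Q) : False := by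
  have hK' : Fintype.card K = 3 ^ 2 := by rw [hK]; norm_num
  have hL : IsSimpleGroup (Cfsg.PSU 3 K 3) := S0283.result hK' 3 (by norm_num) (by norm_num)
  have hf : Finite (Cfsg.PSU 3 K 3) := Nat.finite_of_card_ne_zero (by rw [card_u33 hK]; norm_num)
  exact kill' hg hs h hS hL 6048 (by norm_num) (by norm_num) (card_u33 hK) (card_aut_u33 hK)
    [(2, 5), (3, 3), (7, 1)] [(2, 6), (3, 3), (7, 1)] ⟨by norm_num, by decide, by decide⟩
    ⟨by norm_num, by decide, by decide⟩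
    (by decide) (by decide) 80000000000 80000000000 (by decide +kernel) (by decide +kernel) (by omega) (by omega)

end

theorem card_aut_J2 {L : Type*} [Group L] (h : Spor.IsoJ2 L) : Nat.card (MulAut L) ≤ 1209600 := by
  obtain ⟨e⟩ := h
  have hfin : Finite Spor.J2 := Nat.finite_of_card_ne_zero (by rw [Cfsg.Agent.J2Sylow.SporSylow.card_J2]; norm_num)
  have h1 : Nat.card (MulAut L) = Nat.card (MulAut Spor.J2) := Nat.card_congr (MulAut.congr e).toEquiv
  have h2 : Nat.card (Out Spor.J2) * Nat.card (Inn Spor.J2) = Nat.card (MulAut Spor.J2) :=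
    (Subgroup.card_eq_card_quotient_mul_card_subgroup _).symm
  have h3 : Nat.card (Inn Spor.J2) ≤ 604800 := by
    rw [← Cfsg.Agent.J2Sylow.SporSylow.card_J2]
    exact Nat.card_le_card_of_surjective (MulAut.conj : Spor.J2 →* MulAut Spor.J2).rangeRestrict
      (MonoidHom.rangeRestrict_surjective _)
  rw [h1, ← h2, Cfsg.Agent.S2066.result]
  omega

/-- lower bounds -/
theorem card_six_le {Q : Type} [Group Q] {F : Type} [Field F] [Fintype F] (m : Model Q (Cfsg.spGL 3 F)) {c N : ℕ}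
    (hc : c ≤ Fintype.card F) (hN : N = c ^ 9 * ((c ^ 2 - 1) * (c ^ 4 - 1) * (c ^ 6 - 1))) : N ≤ Nat.card Q * 2 := by
  have h1 := (sp_mono hc 3).trans (card_sp_le (by norm_num) m)
  rw [Finset.prod_range_succ, Finset.prod_range_succ, Finset.prod_range_succ, Finset.prod_range_zero, one_mul] at h1
  norm_num at h1
  rw [hN]
  exact h1

/-- **The row of S5806** -/
theorem row_of {Q : Type} [Group Q] [Finite Q] (hs : IsSimpleGroup Q) {A : Subgroup Q} {Γ : Subgroup (MulAut Q)}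
    (h : EPT A Γ) {F : Type} [Field F] [Fintype F] (m : Model Q (Cfsg.spGL 3 F)) (hq : 3 ≤ Fintype.card F)
    (hres : Cfsg.Geo.InSymplecticResidualClass (m.hat A))
    (h5806 : ∀ H : Subgroup (GL (Fin 3 ⊕ Fin 3) F), Cfsg.Geo.IsMaximalIn (Cfsg.spGL 3 F) H →
      Cfsg.Geo.InSymplecticResidualClass H → List5806 H) (hg : TwoGen.{0})
    (b13 : Fintype.card F = 3 → HasSoc A (Matrix.ProjectiveSpecialLinearGroup (Fin 2) (ZMod 13)) → A.index ≤ 2000000)
    (bJ2 : ∀ (L : Type) [Group L], Spor.IsoJ2 L → HasSoc A L → A.index ≤ 188000000)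
    (own2 : ∀ p : ℕ, p.Prime → CharP F p → 7 ≤ p → HasSoc A (Matrix.ProjectiveSpecialLinearGroup (Fin 2) F) → False)
    (ownG2 : CharP F 2 → Fintype.card F ≠ 2 → HasSoc A (Cfsg.Lie.G2 F) → False) : False := by
  obtain ⟨P, p, hP, hp, hcp, hcase⟩ := h5806 _ (m.isMaximalIn h.max) hres
  have hsoc := hasSoc_of_core m hP
  rcases hcase with ⟨⟨e⟩, hF, hc⟩ | ⟨⟨e⟩, hc⟩ | ⟨⟨e⟩, hc⟩ | ⟨⟨e⟩, hF⟩ | ⟨⟨K, _, _, hK, ⟨e⟩⟩, hc⟩ | ⟨e, hc⟩ |
    ⟨⟨e⟩, h7⟩ | ⟨⟨e⟩, h2, hF⟩
  · have := card_six_le m hq rfl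
    norm_num at this
    exact kill_a5 hg hs h (hsoc.congr e) (by omega)
  · have := card_six_le m hq rfl
    norm_num at this
    exact kill_l7 hg hs h (hsoc.congr e) (by omega)
  · by_cases h3 : Fintype.card F = 3
    · have h4 := card_six_le m hq rfl
      norm_num at h4
      have : Fact (Nat.Prime 13) := ⟨by norm_num⟩
      have h5 : Nat.card (MulAut (Matrix.ProjectiveSpecialLinearGroup (Fin 2) (ZMod 13))) * 12 = 26208 :=
        card_aut_psl_two (p := 13) (by norm_num)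
      have h6 : Nat.card A ≤ 2184 := by
        have h7 := Nat.le_of_dvd (by omega) (card_dvd_of_soc (hsoc.congr e))
        omega
      exact kill (b13 h3 (hsoc.congr e)) h6 (by omega)
    · have h4 := card_six_le m (c := 4) (by omega) rfl
      norm_num at h4
      exact kill_l13 hg hs h (hsoc.congr e) (by omega)
  · have h4 := card_six_le m (c := 9) (by omega) rfl
    norm_num at h4
    exact kill_a7 hg hs h (hsoc.congr e) (by omega)
  · have h7 : 7 ≤ Fintype.card F := by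
      have := hp.two_le
      rcases hc with hc | ⟨hc, hc'⟩
      · omega
      · rw [hc]
        by_contra hlt
        have h8 : p < 7 := by omega
        interval_cases p <;> omega
    have h4 := card_six_le m h7 rfl
    norm_num at h4
    exact kill_u33 hg hs h hK (hsoc.congr e) (by omega)
  · have h5 : 5 ≤ Fintype.card F := by
      have := hp.two_le
      rcases hc with ⟨hc, hc'⟩ | ⟨hc, h2, -⟩
      · rw [hc]
        by_contra hlt
        have h8 : p < 5 := by omega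
        interval_cases p
        · omega
        · omega
        · exact absurd hp (by norm_num)
      · rw [hc]
        have : 3 ≤ p := by omega
        nlinarith
    have h4 := card_six_le m h5 rfl
    norm_num at h4
    refine kill (bJ2 _ e hsoc) (a := 1209600) ?_ (by omega)
    obtain ⟨f, hf⟩ := hsoc.exists_hom
    have hfin : Finite (MulAut (P ⧸ (Cfsg.Geo.scalars (Fin 3 ⊕ Fin 3) F).subgroupOf P)) := by
      obtain ⟨e'⟩ := e
      have : Finite Spor.J2 := Nat.finite_of_card_ne_zero (by rw [Cfsg.Agent.J2Sylow.SporSylow.card_J2]; norm_num)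
      exact Finite.of_equiv _ (MulAut.congr e'.symm).toEquiv
    exact (Nat.card_le_card_of_injective f hf).trans (card_aut_J2 e)
  · exact own2 p hp hcp h7 (hsoc.congr e)
  · subst h2
    exact ownG2 hcp hF (hsoc.congr e)

end Cfsg.Agent.H680.EPR
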